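import Cfsg.Agent.Cit.HexInv
import Cfsg.Agent.Cit.HexD4
import Cfsg.Agent.Cit.HexG2
import Cfsg.Agent.S0241
import Cfsg.Agent.H721.SR.Base
import Cfsg.Agent.H588.UnfLie

/-!
# TEAM SR: `³D₄(q)` and `G₂(q)`, `q` odd: real elements are strongly real (helper991)

`C(z) = (SL(2,q^3) ∘ SL(2,q)) T`; every element of `C(z)` is inverted by an involution of `C(z)`.
* `sr_of_comm`      : an element of a group of hexagon type which commutes with an involution is strongly real;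
* `rr_hex`          : the row predicate for a finite group of hexagon type in odd characteristic;
* `rr_3d4_odd`, `rr_g2_odd`.
-/

set_option autoImplicit false

namespace Cfsg.Agent.H991.SRD

open Cfsg.Agent.Cit.HexBase Cfsg.Agent.Lib.SL2Mat Cfsg.Agent.H721.SR
open Cfsg.Agent.SplitTwo Cfsg.Agent.TitsThree.RankTwoZ

section sl

variable {K : Type*} [Field K]

theorem neg_one_ne : (-1 : K) ≠ 0 := neg_ne_zero.2 one_ne_zero

/-- the key equations for `v = (p, q; r, p)` -/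
theorem key_sl {δ : K} (hδ : δ ≠ 0) (a v : SL2 K) (hv : ent v 0 0 = ent v 1 1)
    (hl : ent v 0 0 * (ent a 1 1 - δ * ent a 0 0) + ent v 0 1 * (δ * ent a 1 0) - ent v 1 0 * ent a 0 1 = 0) :
    v * conjGL (dgl (-1) neg_one_ne) v = 1 ∧
    a * conjGL (dgl δ hδ) v * conjGL (dgl δ hδ) (conjGL (dgl (-1) neg_one_ne) a) * dg δ hδ = v := by
  have hd := det_eq a
  have hdv := det_eq v
  rw [← hv] at hdv
  constructor
  · rw [conjGL_dgl_ent]
    refine ext_ent ?_ ?_ ?_ ?_ <;>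
      simp only [ent_mul, mk_00, mk_01, mk_10, mk_11, ent_one_00, ent_one_01, ent_one_10, ent_one_11]
    · linear_combination hdv
    · rw [← hv]; ring
    · rw [← hv]; ring
    · rw [← hv]; linear_combination hdv
  · rw [conjGL_dgl_ent, conjGL_dgl_ent, conjGL_dgl_ent]
    refine ext_ent ?_ ?_ ?_ ?_ <;>
      simp only [ent_mul, mk_00, mk_01, mk_10, mk_11, dg_00, dg_01, dg_10, dg_11, ← hv] <;>
      obtain ⟨p, hp⟩ : ∃ p, p = ent v 0 0 := ⟨_, rfl⟩ <;>
      obtain ⟨q, hq⟩ : ∃ q, q = ent v 0 1 := ⟨_, rfl⟩ <;>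
      obtain ⟨r, hr⟩ : ∃ r, r = ent v 1 0 := ⟨_, rfl⟩ <;>
      obtain ⟨a0, ha0⟩ : ∃ a0, a0 = ent a 0 0 := ⟨_, rfl⟩ <;>
      obtain ⟨b0, hb0⟩ : ∃ b0, b0 = ent a 0 1 := ⟨_, rfl⟩ <;>
      obtain ⟨c0, hc0⟩ : ∃ c0, c0 = ent a 1 0 := ⟨_, rfl⟩ <;>
      obtain ⟨d0, hd0⟩ : ∃ d0, d0 = ent a 1 1 := ⟨_, rfl⟩ <;>
      simp only [← hp, ← hq, ← hr, ← ha0, ← hb0, ← hc0, ← hd0] at hl hd hdv ⊢ <;>
      field_simp
    · linear_combination p * hd - a0 * hl
    · linear_combination δ * q * hd + b0 * hl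
    · linear_combination r * hd - c0 * hl
    · linear_combination p * δ * hd + d0 * hl

/-- every element of `SL(2,K) D` is inverted up to a scalar by an element of trace `0` and determinant `-1` -/
theorem exists_v {δ : K} (hδ : δ ≠ 0) (a : SL2 K) :
    ∃ v : SL2 K, v * conjGL (dgl (-1) neg_one_ne) v = 1 ∧
    a * conjGL (dgl δ hδ) v * conjGL (dgl δ hδ) (conjGL (dgl (-1) neg_one_ne) a) * dg δ hδ = v := by
  by_cases hc : ent a 1 0 = 0
  · by_cases hb : ent a 0 1 = 0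
    · refine ⟨wm 1 one_ne_zero, key_sl hδ a _ rfl ?_⟩
      simp only [wm_00, wm_01, wm_10, hb, hc]
      ring
    · refine ⟨lo ((ent a 1 1 - δ * ent a 0 0) / ent a 0 1), key_sl hδ a _ rfl ?_⟩
      simp only [lo_00, lo_01, lo_10]
      field_simp
      ring
  · refine ⟨up (-(ent a 1 1 - δ * ent a 0 0) / (δ * ent a 1 0)), key_sl hδ a _ rfl ?_⟩
    simp only [up_00, up_01, up_10]
    field_simp
    ring

end sl

section hex

variable {E : Type*} [Field E] {σ : E ≃+* E} {L : Type*} [Group L]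

/-- an element which commutes with `z` is strongly real -/
theorem sr_of_comm_z (c : HexGrp σ L) [Finite E] (h2 : (2 : E) ≠ 0) {g : L} (hg : g * c.z = c.z * g) : SR g := by
  obtain ⟨a, b, s, hs, rfl⟩ := c.mem_CZ_form h2 hg
  have hs0 : (s : E) ≠ 0 := fun h => hs (Subtype.ext h)
  have hsf : σ (s : E) = s := s.2
  obtain ⟨h, hh⟩ : ∃ h : L, h = c.pa (dg s hs) := ⟨_, rfl⟩
  have hA : c.Act h (s : E)⁻¹ ((s : E) ^ 2) := by rw [hh]; exact c.act_a s hs
  rw [← hh]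
  have hδ : (s : E)⁻¹ ≠ 0 := inv_ne_zero hs0
  -- the square of `h`
  have hsq : h * h = c.pb (dg (s : E)⁻¹ hδ) * c.p4 (dg s hs) := by
    refine (hA.mul hA).unique (((c.act_b (s : E)⁻¹ hδ).mul (c.act_p4_dg s hs)).congr rfl ?_ ?_)
    · ring
    · rw [nrm_inv, nrm_of_fix hsf]
      field_simp
  obtain ⟨v, hv1, hv2⟩ := exists_v hδ a
  obtain ⟨w, hw1, hw2⟩ := exists_v hs b
  -- the actions
  have eh1 : ∀ x, h * c.pb x = c.pb (conjGL (dgl (s : E)⁻¹ hδ) x) * h := by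
    intro x
    have := hA.pb x
    rw [← this]
    group
  have eh4 : ∀ x, h * c.p4 x = c.p4 (conjGL (dgl s hs) x) * h := by
    intro x
    have := hA.p4 h2 x
    have e : (⟨((s : E) ^ 2) ^ 2 * nrm σ (s : E)⁻¹, hA.fix4⟩ : ↥(fx σ)) = s := by
      apply Subtype.ext
      change ((s : E) ^ 2) ^ 2 * nrm σ (s : E)⁻¹ = s
      rw [nrm_inv, nrm_of_fix hsf]
      field_simp
    have e2 : dgl (⟨((s : E) ^ 2) ^ 2 * nrm σ (s : E)⁻¹, hA.fix4⟩ : ↥(fx σ)) (HexGrp.sub_ne _ hA.ne4) = dgl s hs := by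
      congr 1
    rw [e2] at this
    rw [← this]
    group
  have ez1 : ∀ x, c.z0 * c.pb x = c.pb (conjGL (dgl (-1) neg_one_ne) x) * c.z0 := by
    intro x
    have := c.act_z0.pb x
    rw [← this]
    group
  have ez4 : ∀ x, c.z0 * c.p4 x = c.p4 (conjGL (dgl (-1) neg_one_ne) x) * c.z0 := by
    intro x
    have := c.act_z0.p4 h2 x
    have e : (⟨(1 : E) ^ 2 * nrm σ (-1 : E), c.act_z0.fix4⟩ : ↥(fx σ)) = -1 := by
      apply Subtype.ext
      change (1 : E) ^ 2 * nrm σ (-1 : E) = -1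
      rw [nrm_of_fix (by rw [map_neg, map_one])]
      ring
    have e2 : dgl (⟨(1 : E) ^ 2 * nrm σ (-1 : E), c.act_z0.fix4⟩ : ↥(fx σ)) (HexGrp.sub_ne _ c.act_z0.ne4) =
        dgl (-1) neg_one_ne := by
      congr 1
    rw [e2] at this
    rw [← this]
    group
  have hzh : c.z0 * h = h * c.z0 := c.T0_comm ⟨_, _, c.act_z0⟩ ⟨_, _, hA⟩
  have hz2 := c.z0_sq
  have hcm := c.comm_pb_p4
  refine ⟨c.pb v * c.p4 w * c.z0, ?_, ?_⟩
  · calc c.pb v * c.p4 w * c.z0 * (c.pb v * c.p4 w * c.z0)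
        = c.pb v * c.p4 w * (c.z0 * c.pb v) * c.p4 w * c.z0 := by group
      _ = c.pb v * c.p4 w * c.pb (conjGL (dgl (-1) neg_one_ne) v) * (c.z0 * c.p4 w) * c.z0 := by rw [ez1]; group
      _ = c.pb v * (c.p4 w * c.pb (conjGL (dgl (-1) neg_one_ne) v)) * c.p4 (conjGL (dgl (-1) neg_one_ne) w) *
          (c.z0 * c.z0) := by rw [ez4]; group
      _ = (c.pb v * c.pb (conjGL (dgl (-1) neg_one_ne) v)) * (c.p4 w * c.p4 (conjGL (dgl (-1) neg_one_ne) w)) *
          (c.z0 * c.z0) := by rw [← hcm]; group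
      _ = 1 := by rw [← map_mul, ← map_mul, hv1, hw1, hz2, map_one, map_one, mul_one, mul_one]
  · -- `g t g = t`
    have key : (c.pb a * c.p4 b * h) * (c.pb v * c.p4 w * c.z0) * (c.pb a * c.p4 b * h) =
        c.pb v * c.p4 w * c.z0 := by
      calc (c.pb a * c.p4 b * h) * (c.pb v * c.p4 w * c.z0) * (c.pb a * c.p4 b * h)
          = c.pb a * c.p4 b * (h * c.pb v) * c.p4 w * (c.z0 * c.pb a) * c.p4 b * h := by group
        _ = c.pb a * c.p4 b * c.pb (conjGL (dgl (s : E)⁻¹ hδ) v) * (h * c.p4 w) *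
            c.pb (conjGL (dgl (-1) neg_one_ne) a) * (c.z0 * c.p4 b) * h := by rw [eh1, ez1]; group
        _ = c.pb a * c.p4 b * c.pb (conjGL (dgl (s : E)⁻¹ hδ) v) * c.p4 (conjGL (dgl s hs) w) * (h *
            c.pb (conjGL (dgl (-1) neg_one_ne) a)) * c.p4 (conjGL (dgl (-1) neg_one_ne) b) * (c.z0 * h) := by
              rw [eh4, ez4]; group
        _ = c.pb a * c.p4 b * c.pb (conjGL (dgl (s : E)⁻¹ hδ) v) * c.p4 (conjGL (dgl s hs) w) *
            c.pb (conjGL (dgl (s : E)⁻¹ hδ) (conjGL (dgl (-1) neg_one_ne) a)) *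
            (h * c.p4 (conjGL (dgl (-1) neg_one_ne) b)) * (h * c.z0) := by rw [eh1, hzh]; group
        _ = c.pb a * (c.p4 b * c.pb (conjGL (dgl (s : E)⁻¹ hδ) v)) * (c.p4 (conjGL (dgl s hs) w) *
            c.pb (conjGL (dgl (s : E)⁻¹ hδ) (conjGL (dgl (-1) neg_one_ne) a))) *
            c.p4 (conjGL (dgl s hs) (conjGL (dgl (-1) neg_one_ne) b)) * (h * h) * c.z0 := by rw [eh4]; group
        _ = (c.pb a * c.pb (conjGL (dgl (s : E)⁻¹ hδ) v)) * (c.p4 b *
            c.pb (conjGL (dgl (s : E)⁻¹ hδ) (conjGL (dgl (-1) neg_one_ne) a))) * c.p4 (conjGL (dgl s hs) w) *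
            c.p4 (conjGL (dgl s hs) (conjGL (dgl (-1) neg_one_ne) b)) *
            (c.pb (dg (s : E)⁻¹ hδ) * c.p4 (dg s hs)) * c.z0 := by rw [← hcm, ← hcm, hsq]; group
        _ = c.pb a * c.pb (conjGL (dgl (s : E)⁻¹ hδ) v) *
            c.pb (conjGL (dgl (s : E)⁻¹ hδ) (conjGL (dgl (-1) neg_one_ne) a)) * ((c.p4 b * c.p4 (conjGL (dgl s hs) w) *
            c.p4 (conjGL (dgl s hs) (conjGL (dgl (-1) neg_one_ne) b))) *
            c.pb (dg (s : E)⁻¹ hδ)) * c.p4 (dg s hs) * c.z0 := by rw [← hcm]; group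
        _ = c.pb (a * conjGL (dgl (s : E)⁻¹ hδ) v * conjGL (dgl (s : E)⁻¹ hδ) (conjGL (dgl (-1) neg_one_ne) a) *
              dg (s : E)⁻¹ hδ) * c.p4 (b * conjGL (dgl s hs) w *
              conjGL (dgl s hs) (conjGL (dgl (-1) neg_one_ne) b) * dg s hs) * c.z0 := by
              rw [← map_mul c.p4, ← map_mul c.p4, ← hcm]
              simp only [map_mul]
              group
        _ = c.pb v * c.p4 w * c.z0 := by rw [hv2, hw2]
    obtain ⟨g, hg⟩ : ∃ g : L, g = c.pb a * c.p4 b * h := ⟨_, rfl⟩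
    obtain ⟨t, ht⟩ : ∃ t : L, t = c.pb v * c.p4 w * c.z0 := ⟨_, rfl⟩
    rw [← hg, ← ht] at key ⊢
    calc t * g * t⁻¹ = g⁻¹ * (g * t * g) * t⁻¹ := by group
      _ = g⁻¹ := by rw [key]; group

/-- an element which commutes with an involution is strongly real -/
theorem sr_of_comm (c : HexGrp σ L) [Finite E] [Finite L] (h2 : (2 : E) ≠ 0) {g t : L} (ht : t * t = 1) (ht1 : t ≠ 1)
    (hg : g * t = t * g) : SR g := by
  obtain ⟨x, hx⟩ := isConj_iff.1 (c.isConj_z h2 ht ht1)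
  have h1 : SR (x * g * x⁻¹) := by
    refine sr_of_comm_z c h2 ?_
    rw [← hx]
    calc x * g * x⁻¹ * (x * t * x⁻¹) = x * (g * t) * x⁻¹ := by group
      _ = x * t * x⁻¹ * (x * g * x⁻¹) := by rw [hg]; group
  have h3 := h1.conj x⁻¹
  have e : x⁻¹ * (x * g * x⁻¹) * x⁻¹⁻¹ = g := by group
  rwa [e] at h3

/-- a finite group of hexagon type in odd characteristic: real elements are strongly real -/
theorem rr_hex (c : HexGrp σ L) [Finite E] [Finite L] (h2 : (2 : E) ≠ 0) : RR L := by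
  refine RR.of_real fun g hr => ?_
  by_cases h1 : g = 1
  · rw [h1]; exact sr_one
  by_cases hodd : Odd (Nat.card (Subgroup.centralizer ({g} : Set L)))
  · obtain ⟨t, ht, ht2⟩ := Cfsg.Agent.S0241.result g h1 hr hodd
    refine ⟨t, ?_, ht2⟩
    rw [← pow_two, ← ht, pow_orderOf_eq_one]
  · have : 2 ∣ Nat.card (Subgroup.centralizer ({g} : Set L)) := (Nat.not_odd_iff_even.1 hodd).two_dvd
    obtain ⟨t, ht⟩ := exists_prime_orderOf_dvd_card' 2 this
    have h3 : t * t = 1 := by rw [← pow_two, ← ht, pow_orderOf_eq_one]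
    have h4 : t ≠ 1 := by
      rintro rfl
      rw [orderOf_one] at ht
      exact absurd ht (by norm_num)
    refine sr_of_comm c h2 (t := (t : L)) ?_ ?_ ?_
    · exact congrArg Subtype.val h3
    · exact fun h => h4 (Subtype.ext h)
    · exact (Subgroup.mem_centralizer_singleton_iff.1 t.2).symm

end hex

universe u

/-- `³D₄(q)`, `q` odd -/
theorem rr_3d4_odd {S : Type u} [Group S] {K : Type} [Field K] [Fintype K] {q : ℕ}
    (hK : Fintype.card K = q ^ 3) (hq : Odd q) (e : S ≃* Cfsg.Lie.twistedD4 K q) : RR S := by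
  have h2 : (2 : K) ≠ 0 := Cfsg.Agent.H588.UnfLie.two_ne_of_odd (by rw [hK]; exact hq.pow)
  obtain ⟨σ, -, ⟨c⟩⟩ := Cfsg.Agent.Cit.HexD4.exists_d4 hK
  exact (rr_hex c h2).congr e.symm

/-- `G₂(q)`, `q` odd -/
theorem rr_g2_odd {S : Type u} [Group S] {F : Type} [Field F] [Fintype F] (hF : Odd (Fintype.card F))
    (e : S ≃* Cfsg.Lie.chevG2.group F) : RR S := by
  have h2 := Cfsg.Agent.H588.UnfLie.two_ne_of_odd hF
  exact (rr_hex (Cfsg.Agent.Cit.HexG2.g2 F h2) h2).congr e.symm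

end Cfsg.Agent.H991.SRD
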